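import Cfsg.Agent.Spor.McA.S.D0

set_option autoImplicit false
set_option maxRecDepth 100000000
set_option Elab.async false

namespace Cfsg.Agent.Spor.McA.S

theorem gr4 : sub M3 (U.growI W2 [0, 3, 4, 5, 5, 4, 3, 2, 1, 0, 3, 4, 5] (Nat.shiftLeft 1 1)) = true := by decide +kernel

theorem sd6 : U.sends [11] 0 1 = true := by decide +kernel

theorem gr7 : sub (ones 22275) (U.growI ([11] :: W2) [0, 1, 4, 5, 6, 6, 5, 4, 3, 2, 1, 0, 1, 3, 4, 5, 6, 6, 5, 4, 3, 2, 1, 0, 1, 3, 4, 5] (Nat.shiftLeft 1 0)) = true := by decide +kernel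

theorem gr10 : sub M9 (U.growI W2 [0, 1, 2, 3, 4, 5, 5, 4, 3, 2, 1, 0, 2, 3, 4, 5, 5] (Nat.shiftLeft 1 86)) = true := by decide +kernel

theorem sd12 : U.sends [11, 7, 9, 7, 11] 0 86 = true := by decide +kernel

theorem gr13 : sub (ones 22275) (U.growI ([11, 7, 9, 7, 11] :: W2) [0, 1, 2, 3, 4, 5, 6, 6, 5, 4, 3, 2, 1, 0, 1, 2, 3, 4, 5, 6, 6, 5, 4, 3] (Nat.shiftLeft 1 0)) = true := by decide +kernel

theorem gr16 : sub M15 (U.growI W2 [0, 1, 2, 3, 4, 5, 5, 4, 3, 2, 1, 0, 2, 3, 4, 5, 5, 4, 3, 2, 1] (Nat.shiftLeft 1 31)) = true := by decide +kernel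

theorem sd18 : U.sends [11, 7, 9, 11] 0 31 = true := by decide +kernel

theorem gr19 : sub (ones 22275) (U.growI ([11, 7, 9, 11] :: W2) [0, 1, 2, 3, 4, 5, 6, 6, 5, 4, 3, 2, 1, 0, 0, 1, 2, 3, 4, 5, 6, 6, 5, 4] (Nat.shiftLeft 1 0)) = true := by decide +kernel

theorem gr22 : sub M21 (U.growI W2 [0, 1, 2, 3, 4, 5, 5, 4, 3, 2, 1, 0, 2, 3, 4, 5, 5, 4, 3, 2] (Nat.shiftLeft 1 147)) = true := by decide +kernel

theorem sd24 : U.sends [11, 1, 7, 9, 7, 11] 0 147 = true := by decide +kernel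

theorem gr25 : sub (ones 22275) (U.growI ([11, 1, 7, 9, 7, 11] :: W2) [0, 1, 2, 3, 4, 5, 6, 6, 5, 4, 3, 2, 1, 0, 0, 1, 2, 3, 4, 5, 6, 6, 5] (Nat.shiftLeft 1 0)) = true := by decide +kernel

theorem gr28 : sub M27 (U.growI W2 [0, 1, 2, 3, 4, 5, 5, 4, 3, 2, 1, 0, 2, 3, 4, 5, 5, 4, 3, 2] (Nat.shiftLeft 1 682)) = true := by decide +kernel

theorem sd30 : U.sends [11, 7, 9, 11, 9, 7, 11] 0 682 = true := by decide +kernel

theorem gr31 : sub (ones 22275) (U.growI ([11, 7, 9, 11, 9, 7, 11] :: W2) [0, 1, 2, 3, 4, 5, 6, 6, 5, 4, 3, 2, 1, 0, 1, 2, 3, 4, 5, 6, 6, 5, 4] (Nat.shiftLeft 1 0)) = true := by decide +kernel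

theorem ff33 : U.fixFrom 15 22275 1 = true := by decide +kernel

theorem ff34 : U.fixFrom 15 22275 3 = true := by decide +kernel

theorem ff35 : U.fixFrom 15 22275 5 = true := by decide +kernel

theorem ff36 : U.fixFrom 15 22275 7 = true := by decide +kernel

theorem ff37 : U.fixFrom 15 22275 9 = true := by decide +kernel

theorem ff38 : U.fixFrom 15 22275 11 = true := by decide +kernel

theorem ff39 : U.fixFrom 15 22275 13 = true := by decide +kernel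

end Cfsg.Agent.Spor.McA.S
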